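import Mathlib

set_option linter.unusedSectionVars false
set_option linter.unusedVariables false
set_option autoImplicit false
set_option maxHeartbeats 400000

noncomputable section

namespace Groth.Agent.Lib.Helper6.GrHt

open DirectSum

universe u

section Comp

variable {ι : Type*} [AddCommGroup ι] [DecidableEq ι] {R : Type u} [CommRing R]
  (𝒜 : ι → AddSubgroup R) [GradedRing 𝒜]

/-- the homogeneous component of degree `i` -/
def comp (x : R) (i : ι) : R := (decompose 𝒜 x i : R)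

theorem comp_mem (x : R) (i : ι) : comp 𝒜 x i ∈ 𝒜 i := (decompose 𝒜 x i).2

theorem comp_zero (i : ι) : comp 𝒜 (0 : R) i = 0 := by
  unfold comp
  rw [decompose_zero]
  rfl

theorem comp_add (x y : R) (i : ι) : comp 𝒜 (x + y) i = comp 𝒜 x i + comp 𝒜 y i := by
  unfold comp
  rw [decompose_add]
  rfl

theorem comp_sub (x y : R) (i : ι) : comp 𝒜 (x - y) i = comp 𝒜 x i - comp 𝒜 y i := by
  unfold comp
  rw [decompose_sub]
  rfl

theorem comp_neg (x : R) (i : ι) : comp 𝒜 (-x) i = -comp 𝒜 x i := by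
  unfold comp
  rw [decompose_neg]
  rfl

theorem comp_sum {α : Type*} (s : Finset α) (g : α → R) (i : ι) :
    comp 𝒜 (∑ a ∈ s, g a) i = ∑ a ∈ s, comp 𝒜 (g a) i := by
  classical
  induction s using Finset.induction_on with
  | empty => simp [comp_zero]
  | insert a s ha ih => rw [Finset.sum_insert ha, Finset.sum_insert ha, comp_add, ih]

theorem comp_of_mem_same {x : R} {i : ι} (hx : x ∈ 𝒜 i) : comp 𝒜 x i = x :=
  decompose_of_mem_same 𝒜 hx

theorem comp_of_mem_ne {x : R} {i j : ι} (hx : x ∈ 𝒜 i) (hij : i ≠ j) : comp 𝒜 x j = 0 :=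
  decompose_of_mem_ne 𝒜 hx hij

theorem comp_comp (x : R) (i j : ι) :
    comp 𝒜 (comp 𝒜 x i) j = if i = j then comp 𝒜 x i else 0 := by
  split_ifs with h
  · subst h
    exact comp_of_mem_same 𝒜 (comp_mem 𝒜 x i)
  · exact comp_of_mem_ne 𝒜 (comp_mem 𝒜 x i) h

/-- the support -/
def supp (x : R) : Finset ι := by
  classical
  exact (decompose 𝒜 x).support

theorem mem_supp (x : R) (i : ι) : i ∈ supp 𝒜 x ↔ comp 𝒜 x i ≠ 0 := by
  classical
  unfold supp comp
  rw [DFinsupp.mem_support_iff]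
  constructor
  · intro h h0
    apply h
    exact Subtype.ext h0
  · intro h h0
    apply h
    rw [h0]
    rfl

theorem sum_supp (x : R) : ∑ i ∈ supp 𝒜 x, comp 𝒜 x i = x := by
  classical
  unfold supp comp
  exact sum_support_decompose 𝒜 x

theorem supp_nonempty {x : R} (hx : x ≠ 0) : (supp 𝒜 x).Nonempty := by
  by_contra h
  rw [Finset.not_nonempty_iff_eq_empty] at h
  apply hx
  rw [← sum_supp 𝒜 x, h, Finset.sum_empty]

theorem eq_zero_of_comp_eq_zero {x : R} (h : ∀ i, comp 𝒜 x i = 0) : x = 0 := by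
  rw [← sum_supp 𝒜 x]
  exact Finset.sum_eq_zero (fun i _ => h i)

theorem ext_comp {x y : R} (h : ∀ i, comp 𝒜 x i = comp 𝒜 y i) : x = y := by
  rw [← sub_eq_zero]
  apply eq_zero_of_comp_eq_zero 𝒜
  intro i
  rw [comp_sub, h i, sub_self]

/-- the product formula -/
theorem comp_mul (x y : R) (n : ι) :
    comp 𝒜 (x * y) n =
      ∑ ij ∈ (supp 𝒜 x ×ˢ supp 𝒜 y).filter (fun ij => ij.1 + ij.2 = n),
        comp 𝒜 x ij.1 * comp 𝒜 y ij.2 := by
  classical
  unfold comp supp
  rw [decompose_mul, DirectSum.coe_mul_apply]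

theorem comp_mul_left_mem {a : R} {i : ι} (ha : a ∈ 𝒜 i) (b : R) (n : ι) :
    comp 𝒜 (a * b) n = a * comp 𝒜 b (n - i) := by
  have := coe_decompose_mul_add_of_left_mem 𝒜 (i := i) (j := n - i) (b := b) ha
  rw [add_sub_cancel] at this
  exact this

theorem isHomogeneous_iff (I : Ideal R) :
    I.IsHomogeneous 𝒜 ↔ ∀ x ∈ I, ∀ i, comp 𝒜 x i ∈ I := by
  constructor
  · intro h x hx i
    exact h i hx
  · intro h i x hx
    exact h x hx i

end Comp

end Groth.Agent.Lib.Helper6.GrHt
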