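import Mathlib
import Groth.Agent.Lib.Helper6.GrHt.Comp

set_option linter.unusedSectionVars false
set_option linter.unusedVariables false
set_option autoImplicit false
set_option maxHeartbeats 400000

noncomputable section

namespace Groth.Agent.Lib.Helper6.GrHt

open DirectSum

universe u

section Width

variable {D : Type u} [CommRing D] [IsDomain D] (𝒟 : ℤ → AddSubgroup D) [GradedRing 𝒟]

/-- the top degree -/
def top (x : D) : ℤ := if h : (supp 𝒟 x).Nonempty then (supp 𝒟 x).max' h else 0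

/-- the bottom degree -/
def bot (x : D) : ℤ := if h : (supp 𝒟 x).Nonempty then (supp 𝒟 x).min' h else 0

theorem top_mem {x : D} (hx : x ≠ 0) : top 𝒟 x ∈ supp 𝒟 x := by
  unfold top
  rw [dif_pos (supp_nonempty 𝒟 hx)]
  exact Finset.max'_mem _ _

theorem bot_mem {x : D} (hx : x ≠ 0) : bot 𝒟 x ∈ supp 𝒟 x := by
  unfold bot
  rw [dif_pos (supp_nonempty 𝒟 hx)]
  exact Finset.min'_mem _ _

theorem comp_top_ne {x : D} (hx : x ≠ 0) : comp 𝒟 x (top 𝒟 x) ≠ 0 :=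
  (mem_supp 𝒟 x _).mp (top_mem 𝒟 hx)

theorem comp_bot_ne {x : D} (hx : x ≠ 0) : comp 𝒟 x (bot 𝒟 x) ≠ 0 :=
  (mem_supp 𝒟 x _).mp (bot_mem 𝒟 hx)

theorem le_top {x : D} {i : ℤ} (hi : i ∈ supp 𝒟 x) : i ≤ top 𝒟 x := by
  unfold top
  rw [dif_pos ⟨i, hi⟩]
  exact Finset.le_max' _ _ hi

theorem bot_le {x : D} {i : ℤ} (hi : i ∈ supp 𝒟 x) : bot 𝒟 x ≤ i := by
  unfold bot
  rw [dif_pos ⟨i, hi⟩]
  exact Finset.min'_le _ _ hi

theorem comp_of_top_lt {x : D} {i : ℤ} (hi : top 𝒟 x < i) : comp 𝒟 x i = 0 := by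
  by_contra h
  have := le_top 𝒟 ((mem_supp 𝒟 x i).mpr h)
  omega

theorem comp_of_lt_bot {x : D} {i : ℤ} (hi : i < bot 𝒟 x) : comp 𝒟 x i = 0 := by
  by_contra h
  have := bot_le 𝒟 ((mem_supp 𝒟 x i).mpr h)
  omega

theorem bot_le_top {x : D} (hx : x ≠ 0) : bot 𝒟 x ≤ top 𝒟 x := bot_le 𝒟 (top_mem 𝒟 hx)

theorem top_eq {x : D} {t : ℤ} (h1 : comp 𝒟 x t ≠ 0) (h2 : ∀ i, t < i → comp 𝒟 x i = 0) :
    top 𝒟 x = t := by
  apply le_antisymm
  · by_contra h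
    push Not at h
    have hx : x ≠ 0 := by
      intro h0
      rw [h0, comp_zero] at h1
      exact h1 rfl
    exact comp_top_ne 𝒟 hx (h2 _ h)
  · exact le_top 𝒟 ((mem_supp 𝒟 x t).mpr h1)

theorem bot_eq {x : D} {t : ℤ} (h1 : comp 𝒟 x t ≠ 0) (h2 : ∀ i, i < t → comp 𝒟 x i = 0) :
    bot 𝒟 x = t := by
  apply le_antisymm
  · exact bot_le 𝒟 ((mem_supp 𝒟 x t).mpr h1)
  · by_contra h
    push Not at h
    have hx : x ≠ 0 := by
      intro h0
      rw [h0, comp_zero] at h1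
      exact h1 rfl
    exact comp_bot_ne 𝒟 hx (h2 _ h)

/-- the component of a product in the top degree -/
theorem comp_mul_top {x y : D} (hx : x ≠ 0) (hy : y ≠ 0) :
    comp 𝒟 (x * y) (top 𝒟 x + top 𝒟 y) = comp 𝒟 x (top 𝒟 x) * comp 𝒟 y (top 𝒟 y) := by
  rw [comp_mul]
  rw [Finset.sum_eq_single (top 𝒟 x, top 𝒟 y)]
  · intro ij hij hne
    rw [Finset.mem_filter, Finset.mem_product] at hij
    exfalso
    apply hne
    have h1 := le_top 𝒟 hij.1.1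
    have h2 := le_top 𝒟 hij.1.2
    have h3 := hij.2
    apply Prod.ext
    · show ij.1 = top 𝒟 x
      omega
    · show ij.2 = top 𝒟 y
      omega
  · intro h
    exfalso
    apply h
    rw [Finset.mem_filter, Finset.mem_product]
    exact ⟨⟨top_mem 𝒟 hx, top_mem 𝒟 hy⟩, rfl⟩

theorem comp_mul_of_top_lt {x y : D} {n : ℤ} (hn : top 𝒟 x + top 𝒟 y < n) :
    comp 𝒟 (x * y) n = 0 := by
  rw [comp_mul]
  apply Finset.sum_eq_zero
  intro ij hij
  rw [Finset.mem_filter, Finset.mem_product] at hij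
  exfalso
  have h1 := le_top 𝒟 hij.1.1
  have h2 := le_top 𝒟 hij.1.2
  have h3 := hij.2
  omega

theorem comp_mul_bot {x y : D} (hx : x ≠ 0) (hy : y ≠ 0) :
    comp 𝒟 (x * y) (bot 𝒟 x + bot 𝒟 y) = comp 𝒟 x (bot 𝒟 x) * comp 𝒟 y (bot 𝒟 y) := by
  rw [comp_mul]
  rw [Finset.sum_eq_single (bot 𝒟 x, bot 𝒟 y)]
  · intro ij hij hne
    rw [Finset.mem_filter, Finset.mem_product] at hij
    exfalso
    apply hne
    have h1 := bot_le 𝒟 hij.1.1
    have h2 := bot_le 𝒟 hij.1.2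
    have h3 := hij.2
    apply Prod.ext
    · show ij.1 = bot 𝒟 x
      omega
    · show ij.2 = bot 𝒟 y
      omega
  · intro h
    exfalso
    apply h
    rw [Finset.mem_filter, Finset.mem_product]
    exact ⟨⟨bot_mem 𝒟 hx, bot_mem 𝒟 hy⟩, rfl⟩

theorem comp_mul_of_lt_bot {x y : D} {n : ℤ} (hn : n < bot 𝒟 x + bot 𝒟 y) :
    comp 𝒟 (x * y) n = 0 := by
  rw [comp_mul]
  apply Finset.sum_eq_zero
  intro ij hij
  rw [Finset.mem_filter, Finset.mem_product] at hij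
  exfalso
  have h1 := bot_le 𝒟 hij.1.1
  have h2 := bot_le 𝒟 hij.1.2
  have h3 := hij.2
  omega

theorem top_mul {x y : D} (hx : x ≠ 0) (hy : y ≠ 0) :
    top 𝒟 (x * y) = top 𝒟 x + top 𝒟 y := by
  apply top_eq
  · rw [comp_mul_top 𝒟 hx hy]
    exact mul_ne_zero (comp_top_ne 𝒟 hx) (comp_top_ne 𝒟 hy)
  · intro i hi
    exact comp_mul_of_top_lt 𝒟 hi

theorem bot_mul {x y : D} (hx : x ≠ 0) (hy : y ≠ 0) :
    bot 𝒟 (x * y) = bot 𝒟 x + bot 𝒟 y := by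
  apply bot_eq
  · rw [comp_mul_bot 𝒟 hx hy]
    exact mul_ne_zero (comp_bot_ne 𝒟 hx) (comp_bot_ne 𝒟 hy)
  · intro i hi
    exact comp_mul_of_lt_bot 𝒟 hi

/-- the width -/
def width (x : D) : ℤ := top 𝒟 x - bot 𝒟 x

theorem width_nonneg {x : D} (hx : x ≠ 0) : 0 ≤ width 𝒟 x := by
  unfold width
  have := bot_le_top 𝒟 hx
  omega

theorem width_mul {x y : D} (hx : x ≠ 0) (hy : y ≠ 0) :
    width 𝒟 (x * y) = width 𝒟 x + width 𝒟 y := by
  unfold width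
  rw [top_mul 𝒟 hx hy, bot_mul 𝒟 hx hy]
  ring

theorem top_of_mem {s : D} {i : ℤ} (hs : s ∈ 𝒟 i) (hs0 : s ≠ 0) : top 𝒟 s = i := by
  apply top_eq
  · rw [comp_of_mem_same 𝒟 hs]; exact hs0
  · intro j hj
    exact comp_of_mem_ne 𝒟 hs (by omega)

theorem bot_of_mem {s : D} {i : ℤ} (hs : s ∈ 𝒟 i) (hs0 : s ≠ 0) : bot 𝒟 s = i := by
  apply bot_eq
  · rw [comp_of_mem_same 𝒟 hs]; exact hs0
  · intro j hj
    exact comp_of_mem_ne 𝒟 hs (by omega)

theorem width_of_mem {s : D} {i : ℤ} (hs : s ∈ 𝒟 i) (hs0 : s ≠ 0) : width 𝒟 s = 0 := by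
  unfold width
  rw [top_of_mem 𝒟 hs hs0, bot_of_mem 𝒟 hs hs0, sub_self]

theorem mem_of_width_eq_zero {x : D} (hx : x ≠ 0) (hw : width 𝒟 x = 0) : x ∈ 𝒟 (top 𝒟 x) := by
  have h1 : bot 𝒟 x = top 𝒟 x := by unfold width at hw; omega
  have h2 : x = comp 𝒟 x (top 𝒟 x) := by
    apply ext_comp 𝒟
    intro i
    rw [comp_comp]
    split_ifs with h
    · rw [h]
    · rcases lt_or_gt_of_ne h with h' | h'
      · exact comp_of_top_lt 𝒟 h'
      · exact comp_of_lt_bot 𝒟 (by omega)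
  have h3 := comp_mem 𝒟 x (top 𝒟 x)
  rwa [← h2] at h3

/-- the division step -/
theorem div_step {f g : D} (hf : f ≠ 0) (hg : g ≠ 0) (hw : width 𝒟 f ≤ width 𝒟 g) :
    comp 𝒟 f (top 𝒟 f) * g - comp 𝒟 g (top 𝒟 g) * f = 0 ∨
      width 𝒟 (comp 𝒟 f (top 𝒟 f) * g - comp 𝒟 g (top 𝒟 g) * f) < width 𝒟 g := by
  set a := comp 𝒟 f (top 𝒟 f) with ha
  set b := comp 𝒟 g (top 𝒟 g) with hb
  have ha_mem : a ∈ 𝒟 (top 𝒟 f) := comp_mem 𝒟 f _
  have hb_mem : b ∈ 𝒟 (top 𝒟 g) := comp_mem 𝒟 g _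
  have hcomp : ∀ n, comp 𝒟 (a * g - b * f) n =
      a * comp 𝒟 g (n - top 𝒟 f) - b * comp 𝒟 f (n - top 𝒟 g) := by
    intro n
    rw [comp_sub, comp_mul_left_mem 𝒟 ha_mem, comp_mul_left_mem 𝒟 hb_mem]
  have hhigh : ∀ n, top 𝒟 f + top 𝒟 g ≤ n → comp 𝒟 (a * g - b * f) n = 0 := by
    intro n hn
    rw [hcomp]
    rcases eq_or_lt_of_le hn with h | h
    · have h1 : n - top 𝒟 f = top 𝒟 g := by omega
      have h2 : n - top 𝒟 g = top 𝒟 f := by omega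
      rw [h1, h2, ← ha, ← hb, mul_comm, sub_self]
    · rw [comp_of_top_lt 𝒟 (by omega : top 𝒟 g < n - top 𝒟 f),
        comp_of_top_lt 𝒟 (by omega : top 𝒟 f < n - top 𝒟 g), mul_zero, mul_zero, sub_self]
  have hlow : ∀ n, n < top 𝒟 f + bot 𝒟 g → comp 𝒟 (a * g - b * f) n = 0 := by
    intro n hn
    rw [hcomp]
    have hw' : top 𝒟 f - bot 𝒟 f ≤ top 𝒟 g - bot 𝒟 g := hw
    rw [comp_of_lt_bot 𝒟 (by omega : n - top 𝒟 f < bot 𝒟 g),
      comp_of_lt_bot 𝒟 (by omega : n - top 𝒟 g < bot 𝒟 f), mul_zero, mul_zero, sub_self]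
  by_cases h0 : a * g - b * f = 0
  · left; exact h0
  · right
    have h1 : top 𝒟 (a * g - b * f) < top 𝒟 f + top 𝒟 g := by
      by_contra h
      push Not at h
      exact comp_top_ne 𝒟 h0 (hhigh _ h)
    have h2 : top 𝒟 f + bot 𝒟 g ≤ bot 𝒟 (a * g - b * f) := by
      by_contra h
      push Not at h
      exact comp_bot_ne 𝒟 h0 (hlow _ h)
    unfold width
    omega

/-- pseudo-division -/
theorem pseudo_div {f : D} (hf : f ≠ 0) :
    ∀ (n : ℕ) (g : D), (g = 0 ∨ width 𝒟 g ≤ n) →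
      ∃ (s Q r : D) (i : ℤ), s ≠ 0 ∧ s ∈ 𝒟 i ∧ s * g = Q * f + r ∧
        (r = 0 ∨ width 𝒟 r < width 𝒟 f) := by
  intro n
  induction n using Nat.strong_induction_on with
  | _ n ih =>
    intro g hg
    by_cases hg0 : g = 0
    · refine ⟨1, 0, 0, 0, one_ne_zero, SetLike.GradedOne.one_mem, ?_, Or.inl rfl⟩
      rw [hg0]; ring
    have hgn : width 𝒟 g ≤ n := hg.resolve_left hg0
    by_cases hlt : width 𝒟 g < width 𝒟 f
    · refine ⟨1, 0, g, 0, one_ne_zero, SetLike.GradedOne.one_mem, by ring, Or.inr hlt⟩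
    push Not at hlt
    set a := comp 𝒟 f (top 𝒟 f) with ha
    set b := comp 𝒟 g (top 𝒟 g) with hb
    have ha0 : a ≠ 0 := comp_top_ne 𝒟 hf
    have hstep : a * g - b * f = 0 ∨ width 𝒟 (a * g - b * f) < width 𝒟 g :=
      div_step 𝒟 hf hg0 hlt
    have hwg := width_nonneg 𝒟 hg0
    have hex : ∃ (s Q r : D) (i : ℤ), s ≠ 0 ∧ s ∈ 𝒟 i ∧ s * (a * g - b * f) = Q * f + r ∧
        (r = 0 ∨ width 𝒟 r < width 𝒟 f) := by
      rcases hstep with h0 | hlt'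
      · refine ⟨1, 0, 0, 0, one_ne_zero, SetLike.GradedOne.one_mem, ?_, Or.inl rfl⟩
        rw [h0]; ring
      · by_cases h0 : a * g - b * f = 0
        · refine ⟨1, 0, 0, 0, one_ne_zero, SetLike.GradedOne.one_mem, ?_, Or.inl rfl⟩
          rw [h0]; ring
        have hw0 := width_nonneg 𝒟 h0
        have hm : (width 𝒟 (a * g - b * f)).toNat < n := by omega
        exact ih _ hm _ (Or.inr (by omega))
    obtain ⟨s, Q, r, i, hs0, hsi, heq, hr⟩ := hex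
    refine ⟨s * a, Q + s * b, r, i + top 𝒟 f, mul_ne_zero hs0 ha0,
      SetLike.GradedMul.mul_mem hsi (comp_mem 𝒟 f _), ?_, hr⟩
    have : s * a * g = s * (a * g - b * f) + s * b * f := by ring
    rw [this, heq]
    ring

end Width

end Groth.Agent.Lib.Helper6.GrHt
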