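import Mathlib
import Groth.Agent.Lib.Helper6.GrHt.Width

set_option linter.unusedSectionVars false
set_option linter.unusedVariables false
set_option autoImplicit false
set_option maxHeartbeats 400000

noncomputable section

namespace Groth.Agent.Lib.Helper6.GrHt

open DirectSum

universe u

section LemK

variable {D : Type u} [CommRing D] [IsDomain D] (𝒟 : ℤ → AddSubgroup D) [GradedRing 𝒟]

theorem exists_min_width (J : Ideal D) (hJ : J ≠ ⊥) :
    ∃ f ∈ J, f ≠ 0 ∧ ∀ g ∈ J, g ≠ 0 → width 𝒟 f ≤ width 𝒟 g := by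
  classical
  have hex : ∃ n : ℕ, ∃ f ∈ J, f ≠ 0 ∧ (width 𝒟 f).toNat = n := by
    obtain ⟨f, hf, hf0⟩ := Submodule.exists_mem_ne_zero_of_ne_bot hJ
    exact ⟨_, f, hf, hf0, rfl⟩
  obtain ⟨f, hf, hf0, hfn⟩ := Nat.find_spec hex
  refine ⟨f, hf, hf0, ?_⟩
  intro g hg hg0
  have h1 : Nat.find hex ≤ (width 𝒟 g).toNat := Nat.find_min' hex ⟨g, hg, hg0, rfl⟩
  have h2 := width_nonneg 𝒟 hf0
  have h3 := width_nonneg 𝒟 hg0
  omega

/-- in a `ℤ`-graded domain, a prime strictly containing a nonzero prime contains a nonzero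
homogeneous element -/
theorem exists_homogeneous_of_lt {q p : Ideal D} [hq' : q.IsPrime] [hp' : p.IsPrime] (hq : q ≠ ⊥)
    (hqp : q < p) : ∃ (i : ℤ) (x : D), x ∈ 𝒟 i ∧ x ∈ p ∧ x ≠ 0 := by
  by_contra hno
  push Not at hno
  have H : ∀ (i : ℤ) (s : D), s ∈ 𝒟 i → s ≠ 0 → s ∉ p := by
    intro i s hs hs0 hsp
    exact hs0 (hno i s hs hsp)
  have hp : p ≠ ⊥ := by
    intro h
    rw [h] at hqp
    exact hq (le_bot_iff.mp hqp.le)
  obtain ⟨f, hfp, hf0, hfmin⟩ := exists_min_width 𝒟 p hp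
  obtain ⟨f', hf'q, hf'0, hf'min⟩ := exists_min_width 𝒟 q hq
  -- every element of `p` is a multiple of `f` up to a homogeneous factor
  have hdiv : ∀ g ∈ p, ∃ (s Q : D) (i : ℤ), s ≠ 0 ∧ s ∈ 𝒟 i ∧ s * g = Q * f := by
    intro g hg
    by_cases hg0 : g = 0
    · exact ⟨1, 0, 0, one_ne_zero, SetLike.GradedOne.one_mem, by rw [hg0]; ring⟩
    have hwg := width_nonneg 𝒟 hg0
    obtain ⟨s, Q, r, i, hs0, hsi, heq, hr⟩ :=
      pseudo_div 𝒟 hf0 (width 𝒟 g).toNat g (Or.inr (by omega))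
    refine ⟨s, Q, i, hs0, hsi, ?_⟩
    have hrp : r ∈ p := by
      have : r = s * g - Q * f := by rw [heq]; ring
      rw [this]
      exact p.sub_mem (p.mul_mem_left _ hg) (p.mul_mem_left _ hfp)
    by_cases hr0 : r = 0
    · rw [heq, hr0, add_zero]
    · exfalso
      have hrlt : width 𝒟 r < width 𝒟 f := hr.resolve_left hr0
      have := hfmin r hrp hr0
      omega
  -- `f` is not homogeneous
  have hwf : 1 ≤ width 𝒟 f := by
    by_contra h
    have h0 : width 𝒟 f = 0 := by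
      have := width_nonneg 𝒟 hf0
      omega
    exact H _ f (mem_of_width_eq_zero 𝒟 hf0 h0) hf0 hfp
  by_cases hfq : f ∈ q
  · -- then `p ≤ q`
    apply hqp.not_ge
    intro g hg
    obtain ⟨s, Q, i, hs0, hsi, heq⟩ := hdiv g hg
    have h1 : s * g ∈ q := by
      rw [heq]
      exact q.mul_mem_left _ hfq
    rcases hq'.mem_or_mem h1 with h2 | h2
    · exact absurd (hqp.le h2) (H i s hsi hs0)
    · exact h2
  · -- a smaller element of `q`
    obtain ⟨s, Q, i, hs0, hsi, heq⟩ := hdiv f' (hqp.le hf'q)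
    have h1 : Q * f ∈ q := by
      rw [← heq]
      exact q.mul_mem_left _ hf'q
    have hQq : Q ∈ q := (hq'.mem_or_mem h1).resolve_right hfq
    have hQ0 : Q ≠ 0 := by
      intro h0
      rw [h0, zero_mul] at heq
      exact mul_ne_zero hs0 hf'0 heq
    have hw1 : width 𝒟 (s * f') = width 𝒟 f' := by
      rw [width_mul 𝒟 hs0 hf'0, width_of_mem 𝒟 hsi hs0, zero_add]
    have hw2 : width 𝒟 (Q * f) = width 𝒟 Q + width 𝒟 f := width_mul 𝒟 hQ0 hf0
    rw [heq] at hw1
    have := hf'min Q hQq hQ0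
    omega

end LemK

end Groth.Agent.Lib.Helper6.GrHt
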