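import Mathlib
import Groth.Agent.Lib.Helper6.GrHt.Comp

set_option linter.unusedSectionVars false
set_option linter.unusedVariables false
set_option autoImplicit false
set_option maxHeartbeats 400000

noncomputable section

namespace Groth.Agent.Lib.Helper6.GrHt

open DirectSum

universe u

section Quot

variable {ι : Type*} [AddCommGroup ι] [DecidableEq ι] {R : Type u} [CommRing R]
  (𝒜 : ι → AddSubgroup R) [GradedRing 𝒜] (I : Ideal R)

/-- the induced grading on a quotient -/
def quotGrading (i : ι) : AddSubgroup (R ⧸ I) :=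
  (𝒜 i).map (Ideal.Quotient.mk I).toAddMonoidHom

theorem mem_quotGrading {y : R ⧸ I} {i : ι} :
    y ∈ quotGrading 𝒜 I i ↔ ∃ x ∈ 𝒜 i, Ideal.Quotient.mk I x = y := Iff.rfl

instance quotGradedMonoid : SetLike.GradedMonoid (quotGrading 𝒜 I) where
  one_mem := ⟨1, SetLike.GradedOne.one_mem, map_one (Ideal.Quotient.mk I)⟩
  mul_mem := by
    rintro i j _ _ ⟨x, hx, rfl⟩ ⟨y, hy, rfl⟩
    exact ⟨x * y, SetLike.GradedMul.mul_mem hx hy, map_mul (Ideal.Quotient.mk I) x y⟩

/-- the restriction of the quotient map to a graded piece -/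
def mkRestr (i : ι) : 𝒜 i →+ quotGrading 𝒜 I i where
  toFun x := ⟨Ideal.Quotient.mk I x, ⟨x, x.2, rfl⟩⟩
  map_zero' := by
    apply Subtype.ext
    show Ideal.Quotient.mk I ((0 : 𝒜 i) : R) = 0
    rw [ZeroMemClass.coe_zero, map_zero]
  map_add' x y := by
    apply Subtype.ext
    show Ideal.Quotient.mk I ((x + y : 𝒜 i) : R) = Ideal.Quotient.mk I x + Ideal.Quotient.mk I y
    rw [AddMemClass.coe_add, map_add]

/-- the decomposition map before passing to the quotient -/
def preDec : R →+ ⨁ i, quotGrading 𝒜 I i :=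
  (DirectSum.map (fun i => mkRestr 𝒜 I i)).comp (decomposeAddEquiv 𝒜).toAddMonoidHom

theorem preDec_apply (x : R) (i : ι) :
    ((preDec 𝒜 I x i : quotGrading 𝒜 I i) : R ⧸ I) = Ideal.Quotient.mk I (comp 𝒜 x i) := by
  unfold preDec
  rw [AddMonoidHom.comp_apply, DirectSum.map_apply]
  rfl

theorem preDec_of_mem {x : R} {i : ι} (hx : x ∈ 𝒜 i) :
    preDec 𝒜 I x = DirectSum.of (fun i => quotGrading 𝒜 I i) i ⟨Ideal.Quotient.mk I x, ⟨x, hx, rfl⟩⟩ := by
  unfold preDec
  rw [AddMonoidHom.comp_apply]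
  have : (decomposeAddEquiv 𝒜).toAddMonoidHom x = DirectSum.of (fun i => 𝒜 i) i ⟨x, hx⟩ :=
    decompose_of_mem 𝒜 hx
  rw [this, DirectSum.map_of]
  rfl

theorem preDec_eq_zero (hI : I.IsHomogeneous 𝒜) {x : R} (hx : x ∈ I) : preDec 𝒜 I x = 0 := by
  apply DFinsupp.ext
  intro i
  apply Subtype.ext
  rw [preDec_apply]
  show Ideal.Quotient.mk I (comp 𝒜 x i) = 0
  rw [Ideal.Quotient.eq_zero_iff_mem]
  exact hI i hx

/-- the decomposition map of the quotient -/
def quotDec (hI : I.IsHomogeneous 𝒜) : R ⧸ I →+ ⨁ i, quotGrading 𝒜 I i :=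
  QuotientAddGroup.lift I.toAddSubgroup (preDec 𝒜 I) (fun x hx => preDec_eq_zero 𝒜 I hI hx)

theorem quotDec_mk (hI : I.IsHomogeneous 𝒜) (x : R) :
    quotDec 𝒜 I hI (Ideal.Quotient.mk I x) = preDec 𝒜 I x := rfl

/-- the quotient of a graded ring by a homogeneous ideal is graded -/
@[instance_reducible]
def quotDecomposition (hI : I.IsHomogeneous 𝒜) : DirectSum.Decomposition (quotGrading 𝒜 I) :=
  DirectSum.Decomposition.ofAddHom (quotGrading 𝒜 I) (quotDec 𝒜 I hI)
    (by
      ext y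
      obtain ⟨x, rfl⟩ := Ideal.Quotient.mk_surjective y
      rw [AddMonoidHom.comp_apply, quotDec_mk, AddMonoidHom.id_apply]
      induction x using DirectSum.Decomposition.inductionOn 𝒜 with
      | zero => rw [map_zero, map_zero, map_zero]
      | homogeneous m =>
        rw [preDec_of_mem 𝒜 I m.2, DirectSum.coeAddMonoidHom_of]
      | add a b ha hb => rw [map_add, map_add, ha, hb, map_add])
    (by
      apply DirectSum.addHom_ext
      rintro i ⟨_, ⟨x, hx, rfl⟩⟩
      rw [AddMonoidHom.comp_apply, DirectSum.coeAddMonoidHom_of, AddMonoidHom.id_apply]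
      show quotDec 𝒜 I hI (Ideal.Quotient.mk I x) = _
      rw [quotDec_mk, preDec_of_mem 𝒜 I hx]
      rfl)

/-- the quotient of a graded ring by a homogeneous ideal is graded -/
@[instance_reducible]
def quotGradedRing (hI : I.IsHomogeneous 𝒜) : GradedRing (quotGrading 𝒜 I) :=
  { quotGradedMonoid 𝒜 I, quotDecomposition 𝒜 I hI with }

end Quot

end Groth.Agent.Lib.Helper6.GrHt
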