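import Mathlib
import Groth.Agent.Lib.Helper6.GrHt.LemK
import Groth.Agent.Lib.Helper6.GrHt.QuotGrading

set_option linter.unusedSectionVars false
set_option linter.unusedVariables false
set_option autoImplicit false
set_option maxHeartbeats 400000

noncomputable section

namespace Groth.Agent.Lib.Helper6.GrHt

open DirectSum

universe u

section Core

variable {ι : Type*} [AddCommGroup ι] [DecidableEq ι] {R : Type u} [CommRing R]
  (𝒜 : ι → AddSubgroup R) [GradedRing 𝒜]

/-- the homogeneous core, as an ideal -/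
abbrev core (p : Ideal R) : Ideal R := (p.homogeneousCore 𝒜).toIdeal

theorem core_le (p : Ideal R) : core 𝒜 p ≤ p := Ideal.toIdeal_homogeneousCore_le 𝒜 p

theorem core_isHomogeneous (p : Ideal R) : (core 𝒜 p).IsHomogeneous 𝒜 :=
  (p.homogeneousCore 𝒜).isHomogeneous

theorem mem_core_of_mem {p : Ideal R} {x : R} {i : ι} (hx : x ∈ 𝒜 i) (hxp : x ∈ p) :
    x ∈ core 𝒜 p :=
  Ideal.mem_homogeneousCore_of_homogeneous_of_mem ⟨i, hx⟩ hxp

theorem core_mono {p q : Ideal R} (h : p ≤ q) : core 𝒜 p ≤ core 𝒜 q :=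
  Ideal.homogeneousCore_mono 𝒜 h

theorem le_core_of_isHomogeneous {J p : Ideal R} (hJ : J.IsHomogeneous 𝒜) (h : J ≤ p) :
    J ≤ core 𝒜 p := by
  have := core_mono 𝒜 h
  rwa [core, hJ.toIdeal_homogeneousCore_eq_self] at this

theorem core_eq_self_iff (p : Ideal R) : core 𝒜 p = p ↔ p.IsHomogeneous 𝒜 :=
  (Ideal.IsHomogeneous.iff_eq 𝒜 p).symm

end Core

section ZCase

variable {R : Type u} [CommRing R] (ℬ : ℤ → AddSubgroup R) [GradedRing ℬ]

/-- relative form of the key lemma -/
theorem exists_homogeneous_not_mem {a q p : Ideal R} [a.IsPrime] [q.IsPrime] [p.IsPrime]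
    (ha : a.IsHomogeneous ℬ) (haq : a < q) (hqp : q < p) :
    ∃ (i : ℤ) (x : R), x ∈ ℬ i ∧ x ∈ p ∧ x ∉ a := by
  letI := quotGradedRing ℬ a ha
  haveI : (q.map (Ideal.Quotient.mk a)).IsPrime :=
    Ideal.isPrime_map_quotientMk_of_isPrime haq.le
  haveI : (p.map (Ideal.Quotient.mk a)).IsPrime :=
    Ideal.isPrime_map_quotientMk_of_isPrime (haq.le.trans hqp.le)
  have h1 : q.map (Ideal.Quotient.mk a) ≠ ⊥ := by
    intro h
    rw [Ideal.map_eq_bot_iff_le_ker, Ideal.mk_ker] at h
    exact haq.not_ge h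
  have h2 : q.map (Ideal.Quotient.mk a) < p.map (Ideal.Quotient.mk a) := by
    apply lt_of_le_of_ne (Ideal.map_mono hqp.le)
    intro h
    have := congrArg (Ideal.comap (Ideal.Quotient.mk a)) h
    rw [Ideal.comap_map_mk haq.le, Ideal.comap_map_mk (haq.le.trans hqp.le)] at this
    exact hqp.ne this
  obtain ⟨i, y, hy, hyp, hy0⟩ := exists_homogeneous_of_lt (quotGrading ℬ a) h1 h2
  obtain ⟨x, hx, rfl⟩ := hy
  refine ⟨i, x, hx, ?_, ?_⟩
  · have : x ∈ Ideal.comap (Ideal.Quotient.mk a) (p.map (Ideal.Quotient.mk a)) := hyp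
    rwa [Ideal.comap_map_mk (haq.le.trans hqp.le)] at this
  · intro hxa
    apply hy0
    exact Ideal.Quotient.eq_zero_iff_mem.mpr hxa

theorem core_isPrime (p : Ideal R) [hp : p.IsPrime] : (core ℬ p).IsPrime :=
  Ideal.IsPrime.homogeneousCore hp

/-- in a `ℤ`-graded Noetherian ring, `ht p ≤ ht p* + 1` -/
theorem height_le_core_add_one [IsNoetherianRing R] :
    ∀ (n : ℕ) (p : Ideal R) [p.IsPrime], p.height = n → p.height ≤ (core ℬ p).height + 1 := by
  intro n
  induction n using Nat.strong_induction_on with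
  | _ n ih =>
    intro p hp hpn
    haveI := core_isPrime ℬ p
    obtain ⟨m, hm⟩ := ENat.ne_top_iff_exists.mp
      ((core ℬ p).height_ne_top (Ideal.IsPrime.ne_top inferInstance))
    rw [← hm]
    have : ((m : ℕ∞) + 1) = ((m + 1 : ℕ) : ℕ∞) := by push_cast; rfl
    rw [this, Ideal.height_le_iff]
    intro q hq hqp
    haveI := hq
    haveI := core_isPrime ℬ q
    have hqlt : q.height < n := by
      have := Ideal.height_add_one_le_of_lt_of_isPrime hqp
      rw [hpn] at this
      obtain ⟨k, hk⟩ := ENat.ne_top_iff_exists.mp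
        (q.height_ne_top (Ideal.IsPrime.ne_top inferInstance))
      rw [← hk] at this ⊢
      have h2 : ((k : ℕ∞) + 1) = ((k + 1 : ℕ) : ℕ∞) := by push_cast; rfl
      rw [h2] at this
      exact_mod_cast Nat.lt_of_succ_le (by exact_mod_cast this)
    obtain ⟨k, hk⟩ := ENat.ne_top_iff_exists.mp
      (q.height_ne_top (Ideal.IsPrime.ne_top inferInstance))
    have hkn : k < n := by rw [← hk] at hqlt; exact_mod_cast hqlt
    have hIH := ih k hkn q hk.symm
    by_cases hcq : core ℬ q = q
    · have h1 : q ≤ core ℬ p := by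
        apply le_core_of_isHomogeneous ℬ _ hqp.le
        exact (core_eq_self_iff ℬ q).mp hcq
      have h2 := Ideal.height_mono h1
      rw [← hm] at h2
      calc q.height ≤ m := h2
        _ < ((m + 1 : ℕ) : ℕ∞) := by exact_mod_cast Nat.lt_succ_self m
    · have hlt : core ℬ q < q := lt_of_le_of_ne (core_le ℬ q) hcq
      obtain ⟨i, x, hxi, hxp, hxq⟩ :=
        exists_homogeneous_not_mem ℬ (core_isHomogeneous ℬ q) hlt hqp
      have h1 : core ℬ q < core ℬ p := by
        apply lt_of_le_of_ne (core_mono ℬ hqp.le)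
        intro h
        apply hxq
        rw [h]
        exact mem_core_of_mem ℬ hxi hxp
      have h2 := Ideal.height_add_one_le_of_lt_of_isPrime h1
      rw [← hm] at h2
      calc q.height ≤ (core ℬ q).height + 1 := hIH
        _ ≤ m := h2
        _ < ((m + 1 : ℕ) : ℕ∞) := by exact_mod_cast Nat.lt_succ_self m

/-- the `ℤ`-graded case of the height formula -/
theorem height_le_zcase [IsNoetherianRing R] (p : Ideal R) [p.IsPrime] :
    p.height ≤ (core ℬ p).height + (p.map (Ideal.Quotient.mk (core ℬ p))).height := by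
  haveI := core_isPrime ℬ p
  by_cases hc : core ℬ p = p
  · rw [hc]
    exact le_self_add
  · obtain ⟨n, hn⟩ := ENat.ne_top_iff_exists.mp
      (p.height_ne_top (Ideal.IsPrime.ne_top inferInstance))
    have h1 := height_le_core_add_one ℬ n p hn.symm
    refine h1.trans (add_le_add_right ?_ _)
    rw [ENat.one_le_iff_ne_zero]
    intro h0
    rw [Ideal.height_eq_zero_iff_eq_bot] at h0
    rw [Ideal.map_eq_bot_iff_le_ker, Ideal.mk_ker] at h0
    exact hc (le_antisymm (core_le ℬ p) h0)

end ZCase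

end Groth.Agent.Lib.Helper6.GrHt
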