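import Mathlib
import Groth.Agent.Lib.Helper6.GrHt.Comp

set_option linter.unusedSectionVars false
set_option linter.unusedVariables false
set_option autoImplicit false
set_option maxHeartbeats 400000

noncomputable section

namespace Groth.Agent.Lib.Helper6.GrHt

open DirectSum

universe u

section Coarse

variable {ι κ : Type*} [AddCommGroup ι] [DecidableEq ι] [AddCommGroup κ] [DecidableEq κ]
  {R : Type u} [CommRing R] (𝒜 : ι → AddSubgroup R) [GradedRing 𝒜] (f : ι →+ κ)

/-- the coarsening of a grading along a homomorphism of the grading groups -/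
def coarse (k : κ) : AddSubgroup R where
  carrier := {x | ∀ i, f i ≠ k → comp 𝒜 x i = 0}
  zero_mem' := fun i _ => comp_zero 𝒜 i
  add_mem' := fun {x y} hx hy i hi => by rw [comp_add, hx i hi, hy i hi, add_zero]
  neg_mem' := fun {x} hx i hi => by rw [comp_neg, hx i hi, neg_zero]

theorem mem_coarse {x : R} {k : κ} : x ∈ coarse 𝒜 f k ↔ ∀ i, f i ≠ k → comp 𝒜 x i = 0 := Iff.rfl

theorem mem_coarse_of_mem {x : R} {i : ι} (hx : x ∈ 𝒜 i) : x ∈ coarse 𝒜 f (f i) := by
  intro j hj
  apply comp_of_mem_ne 𝒜 hx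
  rintro rfl
  exact hj rfl

theorem mem_coarse_of_mem' {x : R} {i : ι} {k : κ} (hx : x ∈ 𝒜 i) (hk : f i = k) :
    x ∈ coarse 𝒜 f k := by
  rw [← hk]
  exact mem_coarse_of_mem 𝒜 f hx

instance coarseGradedMonoid : SetLike.GradedMonoid (coarse 𝒜 f) where
  one_mem := by
    have := mem_coarse_of_mem 𝒜 f (SetLike.GradedOne.one_mem : (1 : R) ∈ 𝒜 0)
    rwa [map_zero] at this
  mul_mem := by
    intro k k' x y hx hy n hn
    rw [comp_mul]
    apply Finset.sum_eq_zero
    intro ij hij
    rw [Finset.mem_filter, Finset.mem_product] at hij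
    exfalso
    apply hn
    have h1 : f ij.1 = k := by
      by_contra h
      exact (mem_supp 𝒜 x _).mp hij.1.1 (hx _ h)
    have h2 : f ij.2 = k' := by
      by_contra h
      exact (mem_supp 𝒜 y _).mp hij.1.2 (hy _ h)
    rw [← hij.2, map_add, h1, h2]

/-- inclusion of a graded piece into its coarse piece -/
def incl (i : ι) : 𝒜 i →+ coarse 𝒜 f (f i) where
  toFun x := ⟨x, mem_coarse_of_mem 𝒜 f x.2⟩
  map_zero' := rfl
  map_add' _ _ := rfl

/-- the decomposition map for the coarse grading -/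
def cdec : R →+ ⨁ k, coarse 𝒜 f k :=
  (DirectSum.toAddMonoid
    (fun i => (DirectSum.of (fun k => coarse 𝒜 f k) (f i)).comp (incl 𝒜 f i))).comp
    (decomposeAddEquiv 𝒜).toAddMonoidHom

theorem cdec_of_mem {x : R} {i : ι} (hx : x ∈ 𝒜 i) :
    cdec 𝒜 f x = DirectSum.of (fun k => coarse 𝒜 f k) (f i) ⟨x, mem_coarse_of_mem 𝒜 f hx⟩ := by
  unfold cdec
  rw [AddMonoidHom.comp_apply]
  have : (decomposeAddEquiv 𝒜).toAddMonoidHom x = DirectSum.of (fun i => 𝒜 i) i ⟨x, hx⟩ :=
    decompose_of_mem 𝒜 hx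
  rw [this, DirectSum.toAddMonoid_of]
  rfl

theorem coe_cdec (x : R) : DirectSum.coeAddMonoidHom (coarse 𝒜 f) (cdec 𝒜 f x) = x := by
  induction x using DirectSum.Decomposition.inductionOn 𝒜 with
  | zero => rw [map_zero, map_zero]
  | homogeneous m => rw [cdec_of_mem 𝒜 f m.2, DirectSum.coeAddMonoidHom_of]
  | add a b ha hb => rw [map_add, map_add, ha, hb]

/-- the component formula -/
theorem cdec_apply (x : R) (k : κ) :
    ((cdec 𝒜 f x k : coarse 𝒜 f k) : R) =
      ∑ i ∈ supp 𝒜 x, if f i = k then comp 𝒜 x i else 0 := by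
  have h1 : cdec 𝒜 f x = ∑ i ∈ supp 𝒜 x, DirectSum.of (fun k => coarse 𝒜 f k) (f i)
      ⟨comp 𝒜 x i, mem_coarse_of_mem 𝒜 f (comp_mem 𝒜 x i)⟩ := by
    have h2 : cdec 𝒜 f x = cdec 𝒜 f (∑ i ∈ supp 𝒜 x, comp 𝒜 x i) := by rw [sum_supp]
    rw [h2, map_sum]
    apply Finset.sum_congr rfl
    intro i _
    exact cdec_of_mem 𝒜 f (comp_mem 𝒜 x i)
  rw [h1, DFinsupp.finset_sum_apply, AddSubgroup.val_finset_sum]
  apply Finset.sum_congr rfl
  intro i _
  rw [DirectSum.coe_of_apply]
  split_ifs <;> rfl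

@[instance_reducible]
instance coarseDecomposition : DirectSum.Decomposition (coarse 𝒜 f) :=
  DirectSum.Decomposition.ofAddHom (coarse 𝒜 f) (cdec 𝒜 f)
    (by
      ext x
      rw [AddMonoidHom.comp_apply, coe_cdec, AddMonoidHom.id_apply])
    (by
      apply DirectSum.addHom_ext
      rintro k ⟨y, hy⟩
      rw [AddMonoidHom.comp_apply, DirectSum.coeAddMonoidHom_of, AddMonoidHom.id_apply]
      apply DFinsupp.ext
      intro k'
      apply Subtype.ext
      rw [cdec_apply, DirectSum.coe_of_apply]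
      have hsupp : ∀ i ∈ supp 𝒜 y, f i = k := by
        intro i hi
        by_contra h
        exact (mem_supp 𝒜 y i).mp hi (hy i h)
      by_cases hk : k = k'
      · subst hk
        rw [if_pos rfl]
        show _ = y
        conv_rhs => rw [← sum_supp 𝒜 y]
        apply Finset.sum_congr rfl
        intro i hi
        rw [if_pos (hsupp i hi)]
      · rw [if_neg hk]
        show _ = ((0 : coarse 𝒜 f k') : R)
        rw [ZeroMemClass.coe_zero]
        apply Finset.sum_eq_zero
        intro i hi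
        rw [if_neg]
        rw [hsupp i hi]
        exact hk)

instance coarseGradedRing : GradedRing (coarse 𝒜 f) :=
  { coarseGradedMonoid 𝒜 f, coarseDecomposition 𝒜 f with }

/-- the components for the coarse grading -/
theorem comp_coarse (x : R) (k : κ) :
    comp (coarse 𝒜 f) x k = ∑ i ∈ supp 𝒜 x, if f i = k then comp 𝒜 x i else 0 :=
  cdec_apply 𝒜 f x k

theorem comp_comp_coarse (x : R) (k : κ) (j : ι) :
    comp 𝒜 (comp (coarse 𝒜 f) x k) j = if f j = k then comp 𝒜 x j else 0 := by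
  rw [comp_coarse, comp_sum]
  have h1 : ∀ i ∈ supp 𝒜 x, comp 𝒜 (if f i = k then comp 𝒜 x i else 0) j =
      if i = j then (if f j = k then comp 𝒜 x j else 0) else 0 := by
    intro i _
    by_cases hij : i = j
    · subst hij
      rw [if_pos rfl]
      split_ifs with h
      · exact comp_of_mem_same 𝒜 (comp_mem 𝒜 x i)
      · exact comp_zero 𝒜 i
    · rw [if_neg hij]
      split_ifs with h
      · exact comp_of_mem_ne 𝒜 (comp_mem 𝒜 x i) hij
      · exact comp_zero 𝒜 j
  rw [Finset.sum_congr rfl h1, Finset.sum_ite_eq']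
  split_ifs with h1 h2 h2
  · rfl
  · rfl
  · rw [(not_not.mp (mt (mem_supp 𝒜 x j).mpr h1))]
  · rfl

/-- a homogeneous ideal is homogeneous for the coarse grading -/
theorem isHomogeneous_coarse {I : Ideal R} (hI : I.IsHomogeneous 𝒜) :
    I.IsHomogeneous (coarse 𝒜 f) := by
  rw [isHomogeneous_iff]
  intro x hx k
  rw [comp_coarse]
  apply Ideal.sum_mem
  intro i _
  split_ifs
  · exact hI i hx
  · exact I.zero_mem

end Coarse

end Groth.Agent.Lib.Helper6.GrHt
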