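import Mathlib
import Groth.Agent.Lib.Helper6.GrHt.Coarse
import Groth.Agent.Lib.Helper6.GrHt.ZCase

set_option linter.unusedSectionVars false
set_option linter.unusedVariables false
set_option autoImplicit false
set_option maxHeartbeats 400000

noncomputable section

namespace Groth.Agent.Lib.Helper6.GrHt

open DirectSum

universe u

section Two

variable {ι κ κ' : Type*} [AddCommGroup ι] [DecidableEq ι] [AddCommGroup κ] [DecidableEq κ]
  [AddCommGroup κ'] [DecidableEq κ']
  {R : Type u} [CommRing R] (𝒜 : ι → AddSubgroup R) [GradedRing 𝒜] (φ : ι →+ κ) (ψ : ι →+ κ')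

/-- an ideal homogeneous for two jointly injective coarsenings is homogeneous -/
theorem isHomogeneous_of_coarse (hinj : ∀ i j, φ i = φ j → ψ i = ψ j → i = j) {I : Ideal R}
    (h1 : I.IsHomogeneous (coarse 𝒜 φ)) (h2 : I.IsHomogeneous (coarse 𝒜 ψ)) :
    I.IsHomogeneous 𝒜 := by
  rw [isHomogeneous_iff] at h1 h2 ⊢
  intro x hx i
  have hy := h1 x hx (φ i)
  have hz := h2 _ hy (ψ i)
  have : comp (coarse 𝒜 ψ) (comp (coarse 𝒜 φ) x (φ i)) (ψ i) = comp 𝒜 x i := by
    apply ext_comp 𝒜
    intro j
    rw [comp_comp_coarse, comp_comp_coarse, comp_comp]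
    by_cases hij : i = j
    · subst hij
      rw [if_pos rfl, if_pos rfl, if_pos rfl]
    · rw [if_neg hij]
      split_ifs with h3 h4
      · exact absurd (hinj i j h4.symm h3.symm) hij
      · rfl
      · rfl
  rwa [this] at hz

/-- a component for one coarsening of an element homogeneous for another is still homogeneous -/
theorem comp_coarse_mem_coarse {x : R} {b : κ'} (hx : x ∈ coarse 𝒜 ψ b) (a : κ) :
    comp (coarse 𝒜 φ) x a ∈ coarse 𝒜 ψ b := by
  intro j hj
  rw [comp_comp_coarse]
  split_ifs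
  · exact hx j hj
  · rfl

/-- the core for one coarsening of an ideal homogeneous for another stays homogeneous -/
theorem core_coarse_isHomogeneous {J : Ideal R} (hJ : J.IsHomogeneous (coarse 𝒜 φ)) :
    (core (coarse 𝒜 ψ) J).IsHomogeneous (coarse 𝒜 φ) := by
  rw [isHomogeneous_iff]
  have hcore : core (coarse 𝒜 ψ) J = Ideal.span {y | (∃ b, y ∈ coarse 𝒜 ψ b) ∧ y ∈ J} := by
    show Ideal.homogeneousCore' (coarse 𝒜 ψ) J = _
    unfold Ideal.homogeneousCore'
    congr 1
    ext y
    constructor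
    · rintro ⟨⟨y', hy'⟩, hyJ, rfl⟩
      exact ⟨hy', hyJ⟩
    · rintro ⟨hy, hyJ⟩
      exact ⟨⟨y, hy⟩, hyJ, rfl⟩
  rw [hcore]
  intro x hx
  induction hx using Submodule.span_induction with
  | mem y hy =>
    intro a
    obtain ⟨⟨b, hyb⟩, hyJ⟩ := hy
    apply Ideal.subset_span
    exact ⟨⟨b, comp_coarse_mem_coarse 𝒜 φ ψ hyb a⟩, (isHomogeneous_iff _ J).mp hJ y hyJ a⟩
  | zero =>
    intro a
    rw [comp_zero]
    exact Ideal.zero_mem _
  | add y z _ _ hy hz =>
    intro a
    rw [comp_add]
    exact Ideal.add_mem _ (hy a) (hz a)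
  | smul r y _ hy =>
    intro a
    rw [smul_eq_mul, comp_mul]
    apply Ideal.sum_mem
    intro ij _
    exact Ideal.mul_mem_left _ _ (hy ij.2)

/-- the core is the iterated core for two jointly injective coarsenings -/
theorem core_eq_core_core (hinj : ∀ i j, φ i = φ j → ψ i = ψ j → i = j) (p : Ideal R) :
    core (coarse 𝒜 ψ) (core (coarse 𝒜 φ) p) = core 𝒜 p := by
  apply le_antisymm
  · apply le_core_of_isHomogeneous
    · apply isHomogeneous_of_coarse 𝒜 φ ψ hinj
      · exact core_coarse_isHomogeneous 𝒜 φ ψ (core_isHomogeneous _ p)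
      · exact core_isHomogeneous _ _
    · exact (core_le _ _).trans (core_le _ _)
  · apply le_core_of_isHomogeneous
    · exact isHomogeneous_coarse 𝒜 ψ (core_isHomogeneous 𝒜 p)
    · apply le_core_of_isHomogeneous
      · exact isHomogeneous_coarse 𝒜 φ (core_isHomogeneous 𝒜 p)
      · exact core_le 𝒜 p

end Two

end Groth.Agent.Lib.Helper6.GrHt
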