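import Mathlib

set_option linter.unusedSectionVars false
set_option linter.unusedVariables false
set_option autoImplicit false
set_option maxHeartbeats 400000

noncomputable section

namespace Groth.Agent.Lib.Helper6.GrHt

universe u

section Order

theorem height_chain_aux {α : Type*} [Preorder α] (l : LTSeries α) :
    ∀ (k : ℕ) (hk : k < l.length + 1),
      Order.height (l 0) + (k : ℕ∞) ≤ Order.height (l ⟨k, hk⟩) := by
  intro k
  induction k with
  | zero =>
    intro hk
    simp only [Nat.cast_zero, add_zero]
    exact le_of_eq rfl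
  | succ k ih =>
    intro hk
    have hk' : k < l.length + 1 := by omega
    have h1 := ih hk'
    have h2 : l ⟨k, hk'⟩ < l ⟨k + 1, hk⟩ := l.strictMono (by
      show (⟨k, hk'⟩ : Fin (l.length + 1)) < ⟨k + 1, hk⟩
      exact Fin.mk_lt_mk.mpr (Nat.lt_succ_self k))
    have h3 := Order.height_add_one_le h2
    calc Order.height (l 0) + ((k + 1 : ℕ) : ℕ∞)
        = (Order.height (l 0) + (k : ℕ∞)) + 1 := by push_cast; rw [add_assoc]
      _ ≤ Order.height (l ⟨k, hk'⟩) + 1 := add_le_add_left h1 1
      _ ≤ _ := h3

theorem height_chain {α : Type*} [Preorder α] (l : LTSeries α) :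
    Order.height l.head + (l.length : ℕ∞) ≤ Order.height l.last :=
  height_chain_aux l l.length (Nat.lt_succ_self _)

end Order

section Height

variable {R : Type u} [CommRing R]

theorem height_eq_order (I : Ideal R) [hI : I.IsPrime] :
    I.height = Order.height (⟨I, hI⟩ : PrimeSpectrum R) :=
  PrimeSpectrum.height_eq_orderHeight ⟨I, hI⟩

/-- heights add along a quotient by a prime -/
theorem height_add_height_le (a : Ideal R) [a.IsPrime] (P : Ideal (R ⧸ a)) [hP : P.IsPrime] :
    a.height + P.height ≤ (P.comap (Ideal.Quotient.mk a)).height := by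
  haveI : (P.comap (Ideal.Quotient.mk a)).IsPrime := Ideal.comap_isPrime _ _
  have key : ∀ n : ℕ, (n : ℕ∞) ≤ P.height →
      a.height + n ≤ (P.comap (Ideal.Quotient.mk a)).height := by
    intro n hn
    rw [height_eq_order] at hn
    obtain ⟨l, hlast, hlen⟩ := Order.exists_series_of_le_height _ hn
    let e := Ideal.primeSpectrumQuotientOrderIsoZeroLocus a
    have hmono : StrictMono (fun x : PrimeSpectrum (R ⧸ a) => ((e x).1 : PrimeSpectrum R)) := by
      intro x y hxy
      have : e x < e y := e.strictMono hxy
      exact this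
    let l' : LTSeries (PrimeSpectrum R) := l.map _ hmono
    have h1 := height_chain l'
    have h2 : a.height ≤ Order.height l'.head := by
      rw [height_eq_order]
      apply Order.height_mono
      show (⟨a, inferInstance⟩ : PrimeSpectrum R) ≤ (e l.head).1
      exact (e l.head).2
    have h3 : l'.last = ⟨P.comap (Ideal.Quotient.mk a), inferInstance⟩ := by
      show (e l.last).1 = _
      rw [hlast]
      rfl
    have h4 : l'.length = n := hlen
    rw [h3, h4] at h1
    rw [height_eq_order (P.comap (Ideal.Quotient.mk a))]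
    exact (add_le_add_left h2 _).trans h1
  by_cases htop : P.height = ⊤
  · rw [htop]
    have : (P.comap (Ideal.Quotient.mk a)).height = ⊤ := by
      rw [ENat.eq_top_iff_forall_ge]
      intro m
      have := key m (by rw [htop]; exact le_top)
      exact le_trans (le_add_self) this
    rw [this]
    exact le_top
  · obtain ⟨m, hm⟩ := ENat.ne_top_iff_exists.mp htop
    rw [← hm]
    exact key m (by rw [hm])

/-- the version for the image of a prime -/
theorem height_add_height_map_le (a p : Ideal R) [a.IsPrime] [p.IsPrime] (hap : a ≤ p) :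
    a.height + (p.map (Ideal.Quotient.mk a)).height ≤ p.height := by
  haveI : (p.map (Ideal.Quotient.mk a)).IsPrime := Ideal.isPrime_map_quotientMk_of_isPrime hap
  have := height_add_height_le a (p.map (Ideal.Quotient.mk a))
  rwa [Ideal.comap_map_mk hap] at this

/-- the chain inequality for quotient heights -/
theorem height_quot_chain (a b c : Ideal R) [a.IsPrime] [b.IsPrime] [c.IsPrime] (hab : a ≤ b)
    (hbc : b ≤ c) :
    (b.map (Ideal.Quotient.mk a)).height + (c.map (Ideal.Quotient.mk b)).height ≤
      (c.map (Ideal.Quotient.mk a)).height := by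
  haveI : (b.map (Ideal.Quotient.mk a)).IsPrime := Ideal.isPrime_map_quotientMk_of_isPrime hab
  haveI : (c.map (Ideal.Quotient.mk a)).IsPrime :=
    Ideal.isPrime_map_quotientMk_of_isPrime (hab.trans hbc)
  have h1 := height_add_height_map_le (b.map (Ideal.Quotient.mk a)) (c.map (Ideal.Quotient.mk a))
    (Ideal.map_mono hbc)
  have h3 : Ideal.map (DoubleQuot.quotQuotEquivQuotOfLE hab)
      ((c.map (Ideal.Quotient.mk a)).map (Ideal.Quotient.mk (b.map (Ideal.Quotient.mk a)))) =
      c.map (Ideal.Quotient.mk b) := by
    rw [← Ideal.map_coe (DoubleQuot.quotQuotEquivQuotOfLE hab), Ideal.map_map, Ideal.map_map]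
    have h4 : ((DoubleQuot.quotQuotEquivQuotOfLE hab : _ →+* _).comp
        ((Ideal.Quotient.mk (b.map (Ideal.Quotient.mk a))).comp (Ideal.Quotient.mk a))) =
        Ideal.Quotient.mk b := DoubleQuot.quotQuotEquivQuotOfLE_comp_quotQuotMk hab
    rw [RingHom.comp_assoc, h4]
  have h2 : ((c.map (Ideal.Quotient.mk a)).map
      (Ideal.Quotient.mk (b.map (Ideal.Quotient.mk a)))).height =
      (c.map (Ideal.Quotient.mk b)).height := by
    rw [← h3, RingEquiv.height_map]
  rw [h2] at h1
  exact h1

end Height

end Groth.Agent.Lib.Helper6.GrHt
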