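import Mathlib
import Groth.Agent.Lib.Helper6.GrHt.Coarse2
import Groth.Agent.Lib.Helper6.GrHt.Height

set_option linter.unusedSectionVars false
set_option linter.unusedVariables false
set_option autoImplicit false
set_option maxHeartbeats 400000

noncomputable section

namespace Groth.Agent.Lib.Helper6.GrHt

open DirectSum

universe u

section Rank

/-- the height inequality relative to a candidate core -/
def HF {R : Type u} [CommRing R] (p c : Ideal R) : Prop :=
  c.IsPrime ∧ p.height ≤ c.height + (p.map (Ideal.Quotient.mk c)).height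

theorem HF_congr {R : Type u} [CommRing R] {p c c' : Ideal R} (h : c = c') (hc : HF p c) :
    HF p c' := by
  subst h
  exact hc

/-- the statement proved by induction on the rank -/
def Q (r : ℕ) : Prop :=
  ∀ (ι : Type) [AddCommGroup ι] [DecidableEq ι] (b : Module.Basis (Fin r) ℤ ι)
    (R : Type u) [CommRing R] [IsNoetherianRing R] (𝒜 : ι → AddSubgroup R) [GradedRing 𝒜]
    (p : Ideal R) [p.IsPrime], HF p (core 𝒜 p)

theorem Q_zero : Q.{u} 0 := by
  intro ι _ _ b R _ _ 𝒜 _ p hp
  have hsub : ∀ i j : ι, i = j := by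
    intro i j
    apply b.repr.injective
    apply Finsupp.ext
    intro k
    exact k.elim0
  have hhom : p.IsHomogeneous 𝒜 := by
    rw [isHomogeneous_iff]
    intro x hx i
    have hxi : x ∈ 𝒜 i := by
      rw [← sum_supp 𝒜 x]
      apply AddSubgroup.sum_mem
      intro j _
      rw [hsub i j]
      exact comp_mem 𝒜 x j
    rw [comp_of_mem_same 𝒜 hxi]
    exact hx
  have hc : p = core 𝒜 p := ((core_eq_self_iff 𝒜 p).mpr hhom).symm
  apply HF_congr hc
  exact ⟨hp, le_self_add⟩

/-- the first coordinate -/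
def phi {r : ℕ} {ι : Type} [AddCommGroup ι] (b : Module.Basis (Fin (r + 1)) ℤ ι) : ι →+ ℤ :=
  (b.coord 0).toAddMonoidHom

/-- the other coordinates -/
def psi {r : ℕ} {ι : Type} [AddCommGroup ι] (b : Module.Basis (Fin (r + 1)) ℤ ι) :
    ι →+ (Fin r → ℤ) where
  toFun x := fun j => b.repr x j.succ
  map_zero' := by
    ext j
    simp
  map_add' x y := by
    ext j
    simp

theorem phi_psi_inj {r : ℕ} {ι : Type} [AddCommGroup ι] (b : Module.Basis (Fin (r + 1)) ℤ ι)
    (i j : ι) (h1 : phi b i = phi b j) (h2 : psi b i = psi b j) : i = j := by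
  apply b.repr.injective
  apply Finsupp.ext
  intro k
  refine Fin.cases ?_ ?_ k
  · exact h1
  · intro k'
    exact congrFun h2 k'

theorem Q_succ (r : ℕ) (ih : Q.{u} r) : Q.{u} (r + 1) := by
  intro ι _ _ b R _ _ 𝒜 _ p hp
  haveI hp' : (core (coarse 𝒜 (phi b)) p).IsPrime := core_isPrime (coarse 𝒜 (phi b)) p
  have hcc := core_eq_core_core 𝒜 (phi b) (psi b) (phi_psi_inj b) p
  obtain ⟨h1, h2⟩ := HF_congr hcc (ih (Fin r → ℤ) (Pi.basisFun ℤ (Fin r)) R (coarse 𝒜 (psi b))
    (core (coarse 𝒜 (phi b)) p))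
  haveI := h1
  refine ⟨h1, ?_⟩
  have h3 := height_le_zcase (coarse 𝒜 (phi b)) p
  have hle1 : core 𝒜 p ≤ core (coarse 𝒜 (phi b)) p := by
    rw [← hcc]
    exact core_le _ _
  have hle2 : core (coarse 𝒜 (phi b)) p ≤ p := core_le _ _
  have h4 := height_quot_chain (core 𝒜 p) (core (coarse 𝒜 (phi b)) p) p hle1 hle2
  calc p.height ≤ (core (coarse 𝒜 (phi b)) p).height +
        (p.map (Ideal.Quotient.mk (core (coarse 𝒜 (phi b)) p))).height := h3
    _ ≤ ((core 𝒜 p).height +
        ((core (coarse 𝒜 (phi b)) p).map (Ideal.Quotient.mk (core 𝒜 p))).height) +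
        (p.map (Ideal.Quotient.mk (core (coarse 𝒜 (phi b)) p))).height :=
          add_le_add_left h2 _
    _ = (core 𝒜 p).height +
        (((core (coarse 𝒜 (phi b)) p).map (Ideal.Quotient.mk (core 𝒜 p))).height +
        (p.map (Ideal.Quotient.mk (core (coarse 𝒜 (phi b)) p))).height) := add_assoc _ _ _
    _ ≤ (core 𝒜 p).height + (p.map (Ideal.Quotient.mk (core 𝒜 p))).height :=
          add_le_add_right h4 _

theorem Q_all (r : ℕ) : Q.{u} r := by
  induction r with
  | zero => exact Q_zero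
  | succ r ih => exact Q_succ r ih

end Rank

section Main

theorem main {ι : Type} [AddCommGroup ι] [DecidableEq ι] [Module.Free ℤ ι] [Module.Finite ℤ ι]
    (R : Type u) [CommRing R] [IsNoetherianRing R] [IsDomain R] (𝒜 : ι → AddSubgroup R)
    [GradedRing 𝒜] (p : Ideal R) [p.IsPrime] :
    p.height = (p.homogeneousCore 𝒜).toIdeal.height +
      (p.map (Ideal.Quotient.mk (p.homogeneousCore 𝒜).toIdeal)).height := by
  obtain ⟨h1, h2⟩ := Q_all.{u} (Module.finrank ℤ ι) ι (Module.finBasis ℤ ι) R 𝒜 p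
  haveI := h1
  apply le_antisymm h2
  exact height_add_height_map_le (core 𝒜 p) p (core_le 𝒜 p)

end Main

end Groth.Agent.Lib.Helper6.GrHt
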